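import Cfsg.Agent.LocalThree.FourNine.Model

/-!
The degrees and the vanishing class multiplication sums leave a row of degree one.
-/

set_option autoImplicit false
set_option maxRecDepth 8000

namespace Cfsg.Lib.FourNine

open GramSplit

/-- The value of a row at a class. -/
def vr (a : Fin 5) (r : Row) : ℤ := ∑ i : Fin 5, ent (coef a) i * ent r i

/-- The row of the linear character. -/
def linRow : Row := [0, 1, 0, 0, 1]

theorem linRow_vr : ∀ a : Fin 5, vr a linRow = ![1, 1, 1, -1, -1] a := by decide +kernel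

/-- The vanishing sum. -/
noncomputable def tsum (a c : Fin 5) (D : List (Row × ℤ)) : ℂ :=
  1 + (D.map fun p => ((vr a p.1 * vr a p.1 * vr c p.1 : ℤ) : ℂ) / (p.2 : ℂ)).sum

theorem two_terms {p q a b : ℤ} (ha : a ≠ 0) (hb : b ≠ 0) (h : (p : ℂ) / a + (q : ℂ) / b = 0) :
    p * b + q * a = 0 := by
  have c1 : (a : ℂ) ≠ 0 := Int.cast_ne_zero.2 ha
  have c2 : (b : ℂ) ≠ 0 := Int.cast_ne_zero.2 hb
  field_simp at h
  apply Int.cast_injective (α := ℂ)
  push_cast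
  linear_combination h

theorem three_terms {p q r a b c : ℤ} (ha : a ≠ 0) (hb : b ≠ 0) (hc : c ≠ 0)
    (h : (p : ℂ) / a + (q : ℂ) / b + (r : ℂ) / c = 0) : p * b * c + q * a * c + r * a * b = 0 := by
  have c1 : (a : ℂ) ≠ 0 := Int.cast_ne_zero.2 ha
  have c2 : (b : ℂ) ≠ 0 := Int.cast_ne_zero.2 hb
  have c3 : (c : ℂ) ≠ 0 := Int.cast_ne_zero.2 hc
  field_simp at h
  apply Int.cast_injective (α := ℂ)
  push_cast
  linear_combination h

set_option maxHeartbeats 1000000 in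
/-- There is a row of degree one. -/
theorem degree_one (D : List (Row × ℤ)) (hD : D.map Prod.fst ∈ sols) (hne : ∀ p ∈ D, p.2 ≠ 0)
    (hdeg : ∀ i : Fin 5, ent prin i + (D.map fun p => ent p.1 i * p.2).sum = 0)
    (h01 : tsum 0 1 D = 0) (h02 : tsum 0 2 D = 0) (h10 : tsum 1 0 D = 0) (h12 : tsum 1 2 D = 0) :
    (linRow, (1 : ℤ)) ∈ D := by
  have g0 := hdeg 0; have g1 := hdeg 1; have g2 := hdeg 2; have g3 := hdeg 3; have g4 := hdeg 4
  simp only [sols, List.mem_cons, List.not_mem_nil, or_false] at hD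
  rcases hD with hD | hD | hD | hD | hD | hD
  · simp only [sol0, List.map_eq_cons_iff, List.map_eq_nil_iff] at hD
    obtain ⟨⟨r0, x0⟩, _, rfl, rfl, ⟨r1, x1⟩, _, rfl, rfl, ⟨r2, x2⟩, _, rfl, rfl, ⟨r3, x3⟩, _, rfl, rfl, ⟨r4, x4⟩, _,
      rfl, rfl, ⟨r5, x5⟩, _, rfl, rfl, ⟨r6, x6⟩, _, rfl, rfl, ⟨r7, x7⟩, _, rfl, rfl, rfl⟩ := hD
    simp [ent, prin, List.getD_eq_getElem?_getD] at g0 g1 g2 g3 g4
    simp [tsum, vr, Fin.sum_univ_five, ent, coef, List.getD_eq_getElem?_getD] at h01 h02 h10 h12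
    simp only [List.forall_mem_cons] at hne
    obtain ⟨n0, n1, n2, n3, n4, n5, n6, n7, -⟩ := hne
    have e1 : (12 : ℤ) * x3 * x6 + -3 * x2 * x6 + -3 * x2 * x3 = 0 :=
      three_terms n2 n3 n6 (by push_cast; linear_combination h01 - h02)
    have e2 : (3 : ℤ) * x1 * x2 + 3 * x0 * x2 + 12 * x0 * x1 = 0 :=
      three_terms n0 n1 n2 (by push_cast; linear_combination h10 - h12)
    have k1 : x2 = -x0 - x1 := by omega
    subst k1
    have q1 : (x0 - x1) ^ 2 = 0 := by nlinarith only [e2]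
    have k2 : x1 = x0 := by
      have := pow_eq_zero_iff (n := 2) (by norm_num) |>.1 q1
      omega
    have k3 : x3 = -2 * x0 - x6 := by omega
    rw [k3, k2] at e1
    have k4 : x6 = -x0 := by
      have h : (x6 + x0) ^ 2 = 0 := by nlinarith only [e1]
      have := pow_eq_zero_iff (n := 2) (by norm_num) |>.1 h
      omega
    have hx : x4 = 1 := by omega
    subst hx
    simp [linRow]
  all_goals exfalso
  · simp only [sol1, List.map_eq_cons_iff, List.map_eq_nil_iff] at hD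
    obtain ⟨⟨r0, x0⟩, _, rfl, rfl, ⟨r1, x1⟩, _, rfl, rfl, ⟨r2, x2⟩, _, rfl, rfl, ⟨r3, x3⟩, _, rfl, rfl, ⟨r4, x4⟩, _,
      rfl, rfl, ⟨r5, x5⟩, _, rfl, rfl, ⟨r6, x6⟩, _, rfl, rfl, rfl⟩ := hD
    simp [ent, prin, List.getD_eq_getElem?_getD] at g0 g1 g2 g3 g4
    simp [tsum, vr, Fin.sum_univ_five, ent, coef, List.getD_eq_getElem?_getD] at h01 h02 h10 h12
    simp only [List.forall_mem_cons] at hne
    obtain ⟨n0, n1, n2, n3, n4, n5, n6, -⟩ := hne
    have e2 : (12 : ℤ) * x2 + -12 * x1 = 0 := two_terms n1 n2 (by push_cast; linear_combination h10 - h12)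
    omega
  · simp only [sol2, List.map_eq_cons_iff, List.map_eq_nil_iff] at hD
    obtain ⟨⟨r0, x0⟩, _, rfl, rfl, ⟨r1, x1⟩, _, rfl, rfl, ⟨r2, x2⟩, _, rfl, rfl, ⟨r3, x3⟩, _, rfl, rfl, ⟨r4, x4⟩, _,
      rfl, rfl, ⟨r5, x5⟩, _, rfl, rfl, ⟨r6, x6⟩, _, rfl, rfl, rfl⟩ := hD
    simp [ent, prin, List.getD_eq_getElem?_getD] at g0 g1 g2 g3 g4
    simp [tsum, vr, Fin.sum_univ_five, ent, coef, List.getD_eq_getElem?_getD] at h01 h02 h10 h12
    simp only [List.forall_mem_cons] at hne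
    obtain ⟨n0, n1, n2, n3, n4, n5, n6, -⟩ := hne
    have e2 : (3 : ℤ) * x2 + -3 * x1 = 0 := two_terms n1 n2 (by push_cast; linear_combination h10 - h12)
    omega
  · simp only [sol3, List.map_eq_cons_iff, List.map_eq_nil_iff] at hD
    obtain ⟨⟨r0, x0⟩, _, rfl, rfl, ⟨r1, x1⟩, _, rfl, rfl, ⟨r2, x2⟩, _, rfl, rfl, ⟨r3, x3⟩, _, rfl, rfl, ⟨r4, x4⟩, _,
      rfl, rfl, ⟨r5, x5⟩, _, rfl, rfl, ⟨r6, x6⟩, _, rfl, rfl, rfl⟩ := hD
    simp [ent, prin, List.getD_eq_getElem?_getD] at g0 g1 g2 g3 g4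
    simp [tsum, vr, Fin.sum_univ_five, ent, coef, List.getD_eq_getElem?_getD] at h01 h02 h10 h12
    simp only [List.forall_mem_cons] at hne
    obtain ⟨n0, n1, n2, n3, n4, n5, n6, -⟩ := hne
    have e2 : (3 : ℤ) * x2 + -3 * x1 = 0 := two_terms n1 n2 (by push_cast; linear_combination h10 - h12)
    omega
  · simp only [sol4, List.map_eq_cons_iff, List.map_eq_nil_iff] at hD
    obtain ⟨⟨r0, x0⟩, _, rfl, rfl, ⟨r1, x1⟩, _, rfl, rfl, ⟨r2, x2⟩, _, rfl, rfl, ⟨r3, x3⟩, _, rfl, rfl, ⟨r4, x4⟩, _,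
      rfl, rfl, ⟨r5, x5⟩, _, rfl, rfl, ⟨r6, x6⟩, _, rfl, rfl, rfl⟩ := hD
    simp [ent, prin, List.getD_eq_getElem?_getD] at g0 g1 g2 g3 g4
    simp [tsum, vr, Fin.sum_univ_five, ent, coef, List.getD_eq_getElem?_getD] at h01 h02 h10 h12
    simp only [List.forall_mem_cons] at hne
    obtain ⟨n0, n1, n2, n3, n4, n5, n6, -⟩ := hne
    have e2 : (3 : ℤ) * x5 + -3 * x1 = 0 := two_terms n1 n5 (by push_cast; linear_combination h10 - h12)
    omega
  · simp only [sol5, List.map_eq_cons_iff, List.map_eq_nil_iff] at hD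
    obtain ⟨⟨r0, x0⟩, _, rfl, rfl, ⟨r1, x1⟩, _, rfl, rfl, ⟨r2, x2⟩, _, rfl, rfl, ⟨r3, x3⟩, _, rfl, rfl, ⟨r4, x4⟩, _,
      rfl, rfl, ⟨r5, x5⟩, _, rfl, rfl, ⟨r6, x6⟩, _, rfl, rfl, rfl⟩ := hD
    simp [ent, prin, List.getD_eq_getElem?_getD] at g0 g1 g2 g3 g4
    simp [tsum, vr, Fin.sum_univ_five, ent, coef, List.getD_eq_getElem?_getD] at h01 h02 h10 h12
    simp only [List.forall_mem_cons] at hne
    obtain ⟨n0, n1, n2, n3, n4, n5, n6, -⟩ := hne
    have e1 : (12 : ℤ) * x6 + -12 * x3 = 0 := two_terms n3 n6 (by push_cast; linear_combination h01 - h02)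
    have e2 : (3 : ℤ) * x2 * x3 + 3 * x1 * x3 + 12 * x1 * x2 = 0 :=
      three_terms n1 n2 n3 (by push_cast; linear_combination h10 - h12)
    have k1 : x3 = x6 := by omega
    have k2 : x1 = -2 * x6 := by omega
    have k3 : x2 = x6 := by omega
    rw [k1, k2, k3] at e2
    have : x6 * x6 = 0 := by nlinarith
    exact n6 (mul_self_eq_zero.1 this)

end Cfsg.Lib.FourNine
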