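import Cfsg.Agent.LocalThree.GramSplit

/-!
The decompositions of the scalar products of the exceptional functions of the product of two symmetric groups of
degree three.
-/

set_option autoImplicit false
set_option maxRecDepth 8000

namespace Cfsg.Lib.FourNine

open GramSplit

/-- The multiplicities of the principal character. -/
def prin : List ℤ := [1,0,0,1,0]

/-- The scalar products, without the principal character. -/
def gramRest : Mat := [[2,0,0,0,1],[0,3,0,1,1],[0,0,3,-1,-1],[0,1,-1,2,0],[1,1,-1,0,3]]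

/-- A decomposition. -/
def sol0 : List Row :=
  [[0,0,1,-1,0], [0,0,1,0,-1], [0,0,1,0,0], [0,1,0,0,0], [0,1,0,0,1], [0,1,0,1,0], [1,0,0,0,0], [1,0,0,0,1]]

/-- A decomposition. -/
def sol1 : List Row :=
  [[0,0,0,1,-1], [0,0,1,0,0], [0,1,-1,1,1], [0,1,0,0,0], [0,1,1,0,0], [1,0,0,0,0], [1,0,0,0,1]]

/-- A decomposition. -/
def sol2 : List Row :=
  [[0,0,0,1,0], [0,0,1,0,-1], [0,1,-1,1,0], [0,1,0,0,1], [0,1,1,0,0], [1,0,0,0,0], [1,0,0,0,1]]

/-- A decomposition. -/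
def sol3 : List Row :=
  [[0,0,0,0,1], [0,0,1,-1,0], [0,1,-1,0,1], [0,1,0,1,0], [0,1,1,0,0], [1,0,0,0,0], [1,0,0,0,1]]

/-- A decomposition. -/
def sol4 : List Row :=
  [[0,0,0,0,1], [0,0,1,-1,0], [0,1,0,0,0], [0,1,0,0,1], [0,1,0,1,0], [1,0,-1,0,1], [1,0,1,0,0]]

/-- A decomposition. -/
def sol5 : List Row :=
  [[0,0,0,0,1], [0,0,1,-1,0], [0,0,1,0,-1], [0,0,1,0,0], [0,1,0,1,0], [1,-1,0,0,0], [1,1,0,0,1]]

/-- The decompositions. -/
def sols : List (List Row) := [sol0, sol1, sol2, sol3, sol4, sol5]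

/-- The search tree. -/
def cert : Cert :=
  (.branch [1,0,0,0,0] (.branch [1,0,0,0,1] (.branch [0,1,0,0,0] (.branch [0,1,0,0,0] (.last 1 [([-1, -1, 1, 1, 1], 0)]) (.branch [0,1,0,0,1] (.branch [0,1,0,1,0] (.branch [0,0,1,0,0] (.branch [0,0,1,0,-1] (.branch [0,0,1,-1,0] .done (.last 2 [])) (.branch [0,0,1,-1,0] (.last 2 []) (.last 2 [([-1, -1, 1, 1, 1], 0)]))) (.branch [0,0,1,0,-1] (.branch [0,0,1,-1,0] (.last 2 []) (.last 2 [])) (.branch [0,0,1,-1,0] (.last 2 []) (.last 2 [])))) (.last 1 [])) (.branch [0,1,0,1,0] (.last 1 []) (.branch [0,1,0,1,1] (.last 1 []) (.branch [0,1,1,0,0] (.branch [0,1,-1,1,1] (.branch [0,0,1,0,0] (.branch [0,0,0,1,-1] .done (.last 3 [])) (.last 2 [])) (.last 1 [])) (.branch [0,1,-1,0,1] (.last 1 []) (.branch [0,1,-1,1,0] (.last 1 []) (.branch [0,1,-1,1,1] (.last 1 []) (.last 1 [([-1, -1, 1, 1, 1], 1)]))))))))) (.branch [0,1,0,0,1] (.branch [0,1,0,1,0] (.last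 1 []) (.branch [0,1,1,0,0] (.branch [0,1,-1,1,0] (.branch [0,0,1,0,-1] (.branch [0,0,0,1,0] .done (.last 3 [])) (.last 2 [])) (.last 1 [])) (.branch [0,1,-1,1,0] (.last 1 []) (.last 1 [([-1, -1, 1, 1, 1], 2)])))) (.branch [0,1,0,1,0] (.branch [0,1,1,0,0] (.branch [0,1,-1,0,1] (.branch [0,0,1,-1,0] (.branch [0,0,0,0,1] .done (.last 4 [])) (.last 2 [])) (.last 1 [])) (.branch [0,1,-1,0,1] (.last 1 []) (.last 1 [([-1, -1, 1, 1, 1], 2)]))) (.branch [0,1,0,1,1] (.branch [0,1,1,0,0] (.last 1 [([-1, -1, 1, 1, 1], 1)]) (.last 1 [([-1, -1, 1, 1, 1], 1)])) (.branch [0,1,1,0,0] (.branch [0,1,-1,0,1] (.last 1 []) (.branch [0,1,-1,1,0] (.last 1 []) (.branch [0,1,-1,1,1] (.last 1 []) (.last 1 [([-1, -1, 1, 1, 1], 2)])))) (.branch [0,1,-1,0,1] (.last 1 []) (.branch [0,1,-1,1,0] (.last 1 []) (.branch [0,1,-1,1,1] (.last 1 []) (.last 1 [([-1, -1, 1, 1, 1], 2)]))))))))) (.last 0 [])) (.branch [1,0,0,0,1]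 (.last 0 []) (.branch [1,0,0,1,0] (.last 0 []) (.branch [1,0,0,1,1] (.last 0 []) (.branch [1,0,0,-1,1] (.last 0 []) (.branch [1,0,1,0,0] (.branch [1,0,-1,0,1] (.branch [0,1,0,0,0] (.branch [0,1,0,0,0] (.last 1 [([-1, -1, 1, 1, 1], 0)]) (.branch [0,1,0,0,1] (.branch [0,1,0,1,0] (.branch [0,0,1,-1,0] (.branch [0,0,0,0,1] .done (.last 4 [])) (.last 2 [])) (.last 1 [])) (.branch [0,1,0,1,0] (.last 1 []) (.branch [0,1,0,1,1] (.last 1 []) (.last 1 []))))) (.branch [0,1,0,0,1] (.branch [0,1,0,1,0] (.last 1 []) (.last 1 [])) (.branch [0,1,0,1,0] (.last 1 []) (.branch [0,1,0,1,1] (.last 1 []) (.last 1 []))))) (.last 0 [])) (.branch [1,0,1,0,1] (.last 0 []) (.branch [1,0,1,-1,0] (.last 0 []) (.branch [1,0,1,-1,1] (.last 0 []) (.branch [1,0,-1,0,1] (.last 0 []) (.branch [1,0,-1,1,0] (.last 0 []) (.branch [1,0,-1,1,1] (.last 0 []) (.branch [1,1,0,0,1] (.branch [1,-1,0,0,0] (.branch [0,1,0,1,0]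 (.branch [0,0,1,0,0] (.branch [0,0,1,0,0] (.last 2 []) (.branch [0,0,1,0,-1] (.branch [0,0,1,-1,0] (.branch [0,0,0,0,1] .done (.last 4 [])) (.last 2 [])) (.branch [0,0,1,-1,0] (.last 2 []) (.last 2 [])))) (.branch [0,0,1,0,-1] (.branch [0,0,1,-1,0] (.last 2 []) (.last 2 [])) (.branch [0,0,1,-1,0] (.last 2 []) (.last 2 [])))) (.last 1 [])) (.last 0 [])) (.branch [1,1,0,1,0] (.last 0 []) (.branch [1,1,0,1,1] (.last 0 []) (.branch [1,1,1,0,0] (.last 0 []) (.branch [1,1,1,0,1] (.last 0 []) (.branch [1,1,-1,1,1] (.last 0 []) (.branch [1,-1,0,0,0] (.last 0 []) (.branch [1,-1,0,0,1] (.last 0 []) (.branch [1,-1,0,-1,0] (.last 0 []) (.branch [1,-1,0,-1,1] (.last 0 []) (.branch [1,-1,1,0,0] (.last 0 []) (.branch [1,-1,1,-1,0] (.last 0 []) (.branch [1,-1,1,-1,1] (.last 0 []) (.branch [1,-1,-1,0,0] (.last 0 []) (.branch [1,-1,-1,0,1] (.last 0 []) (.last 0 [([-1, -1, 1, 1, 1], 3)]))))))))))))))))))))))))))))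

theorem cert_ok : check 5 sols [] cert gramRest [] [] = true := by decide +kernel

end Cfsg.Lib.FourNine
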