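import Cfsg.Agent.LocalThree.AltNineLocal.Three
import Cfsg.Agent.LocalThree.FourNine.Arith
import Cfsg.Agent.Components.Cores

/-!
A Sylow subgroup of order nine with normaliser the product of two symmetric groups of degree three which
contains all centralisers of its nontrivial elements is normal.
-/

set_option autoImplicit false
set_option linter.unusedSectionVars false
set_option maxRecDepth 8000
set_option synthInstance.maxSize 2000

namespace Cfsg.Lib.FourNine

open Subgroup Equiv Cfsg.Lib.Chars Cfsg.Lib.GramSplit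
open scoped ComplexConjugate

universe u

/-- The members with their rows. -/
theorem exists_rows' {ι : Type*} [Fintype ι] [DecidableEq ι] {q : ℕ} (n : Fin q → ι → ℤ) (d : ι → ℤ) (o : ι)
    (R : Mat) (ls : List (List Row)) (c : Cert) (hc : check q ls [] c R [] [] = true)
    (hR : ∀ i j : Fin q, ∑ x, n i x * n j x = get R i j + n i o * n j o) :
    ∃ D : List (Row × ℤ × ι), D.map Prod.fst ∈ ls ∧
      (∀ p ∈ D, p.2.2 ≠ o ∧ ∃ σ : ℤ, σ * σ = 1 ∧ p.2.1 = σ * d p.2.2 ∧ ∀ i : Fin q, n i p.2.2 = σ * ent p.1 i) ∧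
      (∀ i, n i o * d o + (D.map fun p => ent p.1 i * p.2.1).sum = ∑ x, n i x * d x) ∧
      ∀ f : ι → ℂ, (∀ x, (∀ i, n i x = 0) → f x = 0) → ∑ x, f x = f o + (D.map fun p => f p.2.2).sum := by
  let n' : ℕ → ι → ℤ := fun i x => if h : i < q then n ⟨i, h⟩ x else 0
  obtain ⟨L, hnd, hLs, hrest, l, hl, hp⟩ := sound ls n' (by simp) c R [] [] hc (Finset.univ.erase o)
    (fun i hi j hj => by
      have e := hR ⟨i, hi⟩ ⟨j, hj⟩
      rw [← Finset.add_sum_erase _ _ (Finset.mem_univ o)] at e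
      simp only [n', hi, hj, dite_true]
      linarith only [e])
    (fun x _ => List.not_mem_nil)
  obtain ⟨L', hL', hmap⟩ := exists_perm_map (fun x => nrm (col q n' x)) (by simpa using hp)
  obtain ⟨sg, hsg⟩ : ∃ sg : ι → ℤ, ∀ x, sg x * sg x = 1 ∧ ∀ i : Fin q, n i x = sg x * ent (nrm (col q n' x)) i := by
    refine ⟨fun x => if nrm (col q n' x) = col q n' x then 1 else -1,
      fun x => ⟨by dsimp only; split_ifs <;> rfl, fun i => ?_⟩⟩
    have hc' : ent (col q n' x) i = n i x := by rw [ent_col i.2]; simp [n', i.2]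
    simp only
    split_ifs with he
    · rw [he, hc', one_mul]
    · rw [(nrm_sign _).resolve_left he]
      have e : ent ((col q n' x).map Neg.neg) i = -ent (col q n' x) i := by
        simp [ent, col, List.getD_eq_getElem?_getD, i.2]
      rw [e, hc']; ring
  have hnd' : L'.Nodup := hL'.nodup_iff.2 hnd
  have hmem : ∀ x, x ∈ L' ↔ x ∈ L := fun x => hL'.mem_iff
  have hoL : o ∉ L' := fun hm => (Finset.mem_erase.1 (hLs o ((hmem o).1 hm))).1 rfl
  have hzero : ∀ x, x ≠ o → x ∉ L' → ∀ i : Fin q, n i x = 0 := fun x hx hxL i => by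
    have := hrest x (Finset.mem_erase.2 ⟨hx, Finset.mem_univ _⟩) (fun hm => hxL ((hmem x).2 hm)) i i.2
    simpa [n', i.2] using this
  have split : ∀ {M : Type} [AddCommMonoid M] (f : ι → M), (∀ x, (∀ i, n i x = 0) → f x = 0) →
      ∑ x, f x = f o + (L'.map f).sum := by
    intro M _ f hf
    rw [← List.sum_toFinset _ hnd', ← Finset.sum_subset (Finset.subset_univ (insert o L'.toFinset)) fun x _ hx => ?_]
    · rw [Finset.sum_insert (by simpa using hoL)]
    · simp only [Finset.mem_insert, List.mem_toFinset, not_or] at hx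
      exact hf x (hzero x hx.1 hx.2)
  refine ⟨L'.map fun x => (nrm (col q n' x), sg x * d x, x), ?_, ?_, fun i => ?_, fun f hf => ?_⟩
  · rw [List.map_map]; exact (show L'.map _ = l from hmap) ▸ hl
  · intro p hp
    obtain ⟨x, hx, rfl⟩ := List.mem_map.1 hp
    exact ⟨fun e => hoL (e ▸ hx), sg x, (hsg x).1, rfl, (hsg x).2⟩
  · rw [split (fun x => n i x * d x) (fun x hx => by simp [hx i]), List.map_map]
    congr 2
    refine List.map_congr_left fun x _ => ?_
    rw [Function.comp_apply, (hsg x).2 i]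
    ring
  · rw [split f hf, List.map_map]; rfl

theorem cube_pair : Cube (rep 0) ∧ Cube (rep 1) ∧ Cube (rep 2) := by decide +kernel

theorem decomp : ∀ x : Pr3, ∃ i j : Fin 3, ∃ k l : Fin 2,
    x = rep 0 ^ (i : ℕ) * rep 1 ^ (j : ℕ) * (((1 : Perm (Fin 3)), tr) ^ (k : ℕ) * ((tr, (1 : Perm (Fin 3))) ^ (l : ℕ))) := by
  decide +kernel

theorem rep_parts : rep 3 = rep 0 * ((1 : Perm (Fin 3)), tr) ∧ rep 4 = rep 1 * ((tr, (1 : Perm (Fin 3)))) ∧
    (∀ x : Pr3, Cube x → ∃ i j : Fin 3, x = rep 0 ^ (i : ℕ) * rep 1 ^ (j : ℕ)) := by decide +kernel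

theorem even_part : ∀ i j : Fin 3, ∀ k l : Fin 2, k = l →
    (Cube (rep 0 ^ (i : ℕ) * rep 1 ^ (j : ℕ) * (((1 : Perm (Fin 3)), tr) ^ (k : ℕ) * ((tr, (1 : Perm (Fin 3))) ^ (l : ℕ)))) ∨
      Cube ((tr, tr)⁻¹ * (rep 0 ^ (i : ℕ) * rep 1 ^ (j : ℕ) * (((1 : Perm (Fin 3)), tr) ^ (k : ℕ) * ((tr, (1 : Perm (Fin 3))) ^ (l : ℕ)))))) ∧
    ∀ a : Fin 5, a.val < 3 →
      rep 0 ^ (i : ℕ) * rep 1 ^ (j : ℕ) * (((1 : Perm (Fin 3)), tr) ^ (k : ℕ) * ((tr, (1 : Perm (Fin 3))) ^ (l : ℕ))) * rep a =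
        rep a * (rep 0 ^ (i : ℕ) * rep 1 ^ (j : ℕ) * (((1 : Perm (Fin 3)), tr) ^ (k : ℕ) * ((tr, (1 : Perm (Fin 3))) ^ (l : ℕ)))) →
      Cube (rep 0 ^ (i : ℕ) * rep 1 ^ (j : ℕ) * (((1 : Perm (Fin 3)), tr) ^ (k : ℕ) * ((tr, (1 : Perm (Fin 3))) ^ (l : ℕ)))) := by
  decide +kernel

theorem inv_tr : (∀ x : Pr3, Cube x → (tr, tr) * x * (tr, tr)⁻¹ = x⁻¹) ∧
    ((tr, tr) : Pr3) = ((1 : Perm (Fin 3)), tr) * (tr, (1 : Perm (Fin 3))) ∧
    rep 2 = rep 0 * rep 1 ∧ (∀ i j : Fin 3, i ≠ j → rep (Fin.castLE (by norm_num) i) ≠ rep (Fin.castLE (by norm_num) j) ∧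
      rep (Fin.castLE (by norm_num) i) ≠ (rep (Fin.castLE (by norm_num) j))⁻¹) := by decide +kernel

/-- The data. -/
structure Local (K : Type u) [Group K] where
  φ : Pr3 →* K
  inj : Function.Injective φ
  P : Sylow 3 K
  memP : ∀ x, φ x ∈ (P : Subgroup K) ↔ Cube x
  le : (P : Subgroup K) ≤ φ.range
  norm : normalizer ((P : Subgroup K) : Set K) ≤ φ.range
  cent : ∀ p ∈ (P : Subgroup K), p ≠ 1 → centralizer ({p} : Set K) ≤ φ.range
  core : Cfsg.pPrimeCore 3 K = ⊥

namespace Local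

variable {K : Type u} [Group K] [Finite K] (S : Local K)

include S

theorem cube_iff (x : Pr3) : S.φ x * (S.φ x * S.φ x) = 1 ↔ Cube x := by
  rw [← map_mul, ← map_mul, map_eq_one_iff S.φ S.inj]; rfl

theorem mem_cube {p : K} (hp : p ∈ (S.P : Subgroup K)) : p * (p * p) = 1 := by
  obtain ⟨x, rfl⟩ := S.le hp
  exact (S.cube_iff x).2 ((S.memP x).1 hp)

theorem P_comm {a b : K} (ha : a ∈ (S.P : Subgroup K)) (hb : b ∈ (S.P : Subgroup K)) : a * b = b * a := by
  obtain ⟨x, rfl⟩ := S.le ha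
  obtain ⟨y, rfl⟩ := S.le hb
  rw [← map_mul, ← map_mul, cube_comm x y ((S.memP x).1 ha) ((S.memP y).1 hb)]

theorem mem_of_cube {h : K} (hr : h ∈ S.φ.range) (h3 : h * (h * h) = 1) : h ∈ (S.P : Subgroup K) := by
  obtain ⟨x, rfl⟩ := hr
  exact (S.memP x).2 ((S.cube_iff x).1 h3)

theorem card9 : Nat.card (S.P : Subgroup K) = 9 := by
  rw [← card_cube, ← Nat.card_eq_finsetCard]
  refine (Nat.card_congr (Equiv.ofBijective
    (fun x : (Finset.univ.filter fun x : Pr3 => Cube x) => (⟨S.φ x.1, (S.memP _).2 (Finset.mem_filter.1 x.2).2⟩ : (S.P : Subgroup K)))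
    ⟨fun x y h => Subtype.ext (S.inj (congrArg Subtype.val h)), fun p => ?_⟩)).symm
  obtain ⟨x, hx⟩ := S.le p.2
  exact ⟨⟨x, Finset.mem_filter.2 ⟨Finset.mem_univ _, (S.memP x).1 (hx ▸ p.2)⟩⟩, Subtype.ext hx⟩

/-- Conjugation inside `P` happens in the normaliser. -/
theorem ti {g p : K} (hp : p ∈ (S.P : Subgroup K)) (hp1 : p ≠ 1) (hgp : g * p * g⁻¹ ∈ (S.P : Subgroup K)) :
    g ∈ S.φ.range := by
  refine S.norm (Subgroup.mem_normalizer_iff_map_conj_eq.2 (Subgroup.eq_of_le_of_card_ge ?_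
    (by rw [Subgroup.card_map_of_injective (MulAut.conj g).injective])))
  rintro _ ⟨a, ha, rfl⟩
  refine S.mem_of_cube (S.cent _ hgp (fun h => hp1 (conj_eq_one_iff.1 h)) (mem_centralizer_singleton_iff.2 ?_)) ?_
  · show g * a * g⁻¹ * (g * p * g⁻¹) = g * p * g⁻¹ * (g * a * g⁻¹)
    calc g * a * g⁻¹ * (g * p * g⁻¹) = g * (a * p) * g⁻¹ := by group
      _ = g * (p * a) * g⁻¹ := by rw [S.P_comm ha hp]
      _ = _ := by group
  · show g * a * g⁻¹ * (g * a * g⁻¹ * (g * a * g⁻¹)) = 1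
    calc _ = g * (a * (a * a)) * g⁻¹ := by group
      _ = 1 := by rw [S.mem_cube ha]; group

/-- Fusion in `P`. -/
theorem fusion {a : Fin 5} (ha : a.val < 3) {b : Pr3} (hb : Cube b) (h : IsConj (S.φ (rep a)) (S.φ b)) :
    InCls a b := by
  obtain ⟨g, hg⟩ := isConj_iff.1 h
  obtain ⟨k, rfl⟩ := S.ti ((S.memP _).2 (rep_cube a ha).1)
    (fun e => (rep_cube a ha).2 (S.inj (e.trans (map_one S.φ).symm))) (hg ▸ (S.memP b).2 hb)
  exact ⟨k, S.inj (by rw [map_mul, map_mul, map_inv, hg])⟩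

theorem no_pairs (a c : Fin 5) (ha : a.val < 2) (hc : c.val < 3) (hac : a ≠ c) :
    Nat.card {p : K × K // IsConj (S.φ (rep a)) p.1 ∧ IsConj (S.φ (rep a)) p.2 ∧ p.1 * p.2 = S.φ (rep c)} = 0 := by
  rw [Nat.card_eq_zero]
  refine Or.inl ⟨fun ⟨⟨x, y⟩, hx, hy, hxy⟩ => ?_⟩
  simp only at hx hy hxy
  have ha3 : a.val < 3 := by omega
  have hcube : ∀ {w : K}, IsConj (S.φ (rep a)) w → w * (w * w) = 1 := by
    intro w hw
    obtain ⟨g, rfl⟩ := isConj_iff.1 hw
    calc _ = g * (S.φ (rep a) * (S.φ (rep a) * S.φ (rep a))) * g⁻¹ := by group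
      _ = 1 := by rw [(S.cube_iff _).2 (rep_cube a ha3).1]; group
  have hz3 : x * y * (x * y * (x * y)) = 1 := by rw [hxy]; exact (S.cube_iff _).2 (rep_cube c hc).1
  obtain ⟨p, hp3, hp1, hpx, hpy⟩ := Cfsg.Lib.AltNineLocal.exists_central (hcube hx) (hcube hy) hz3 (fun h => by
    rw [hxy, ← map_inv] at h
    refine cls_sep a c ha hc hac (S.fusion ha3 ?_ (hx.trans h))
    exact (show ∀ a : Fin 5, a.val < 3 → Cube (rep a)⁻¹ by decide +kernel) c hc)
  have hpP : p ∈ (S.P : Subgroup K) := by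
    refine S.mem_of_cube (S.cent _ ((S.memP _).2 (rep_cube c hc).1)
      (fun e => (rep_cube c hc).2 (S.inj (e.trans (map_one S.φ).symm))) (mem_centralizer_singleton_iff.2 ?_)) hp3
    rw [← hxy]; exact (hpx.mul_right hpy).eq
  obtain ⟨bx, hbx⟩ := S.cent p hpP hp1 (mem_centralizer_singleton_iff.2 hpx.eq.symm)
  obtain ⟨by', hby⟩ := S.cent p hpP hp1 (mem_centralizer_singleton_iff.2 hpy.eq.symm)
  have h1 := S.fusion ha3 ((S.cube_iff bx).1 (hbx ▸ hcube hx)) (hbx ▸ hx)
  have h2 := S.fusion ha3 ((S.cube_iff by').1 (hby ▸ hcube hy)) (hby ▸ hy)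
  refine no_product a c ha hc hac bx by' h1 h2 ⟨1, ?_⟩
  rw [one_mul, inv_one, mul_one]
  exact S.inj (by rw [map_mul, hbx, hby, hxy])

/-! ### The characters -/

/-- The coordinates of the normaliser. -/
noncomputable def e : S.φ.range ≃* Pr3 := (MonoidHom.ofInjective S.inj).symm

theorem φ_e (x : S.φ.range) : S.φ (S.e x) = x := MonoidHom.apply_ofInjective_symm S.inj x

/-- The pull back of a function. -/
noncomputable def pull (i : Fin 5) : ↥S.φ.range → ℂ := fun x => (spec i (S.e x) : ℂ)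

theorem gen_pull (i : Fin 5) : Cfsg.IsGeneralizedCharacter S.φ.range (S.pull i) :=
  IsGeneralizedCharacter.comp_hom (gen_spec i) S.e.toMonoidHom

/-- Induction does not change the functions. -/
theorem ind_apply [Fintype K] (i : Fin 5) (x : S.φ.range) :
    Cfsg.indFun S.φ.range (S.pull i) x = S.pull i x := by
  classical
  have hcl := isClassFunction_generalized (S.gen_pull i)
  obtain ⟨H, hH⟩ : ∃ H : Subgroup K, H = S.φ.range := ⟨_, rfl⟩
  have hsupp : ∀ g : K, Cfsg.extendByZero S.φ.range (S.pull i) (g⁻¹ * x * g) =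
      if g ∈ S.φ.range then S.pull i x else 0 := by
    intro g
    split_ifs with hg
    · rw [extendByZero_mem _ (S.φ.range.mul_mem (S.φ.range.mul_mem (S.φ.range.inv_mem hg) x.2) hg)]
      have := hcl x (⟨g, hg⟩ : S.φ.range)⁻¹
      rw [inv_inv] at this
      exact this
    · by_cases hm : g⁻¹ * x * g ∈ S.φ.range
      · rw [extendByZero_mem _ hm]
        by_contra hne
        obtain ⟨y, hy⟩ : ∃ y, y = S.e ⟨g⁻¹ * x * g, hm⟩ := ⟨_, rfl⟩
        have hy4 : four y ≠ 1 := fun h => hne (by rw [pull, ← hy, spec_supp i y h]; simp)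
        have hyv : S.φ y = g⁻¹ * x * g := by rw [hy, φ_e]
        refine hg (S.ti ((S.memP _).2 (four_cube y)) (fun h => hy4 (S.inj (h.trans (map_one S.φ).symm))) ?_)
        have e4 : g * S.φ (four y) * g⁻¹ = S.φ (four (S.e x)) := by
          simp only [four, map_mul, hyv, φ_e]
          group
        rw [e4]
        exact (S.memP _).2 (four_cube _)
      · exact extendByZero_not_mem _ hm
  rw [indFun_apply, Finset.sum_congr rfl fun g _ => hsupp g, Finset.sum_ite, Finset.sum_const_zero, add_zero,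
    Finset.sum_const, nsmul_eq_mul, ← Fintype.card_subtype, ← Nat.card_eq_fintype_card, ← mul_assoc,
    show Nat.card {g : K // g ∈ S.φ.range} = Nat.card S.φ.range from rfl,
    inv_mul_cancel₀ (Nat.cast_ne_zero.2 Nat.card_pos.ne'), one_mul]

theorem cardH : Nat.card S.φ.range = 36 := by
  rw [Nat.card_congr S.e.toEquiv, Nat.card_eq_fintype_card]
  rfl

theorem sum_H [Fintype S.φ.range] (F : Pr3 → ℂ) : ∑ x : S.φ.range, F (S.e x) = ∑ y : Pr3, F y :=
  Fintype.sum_equiv S.e.toEquiv _ _ fun _ => rfl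

theorem inner_irr [Fintype K] (i : Fin 5) (χ : Cfsg.IrrCharacter K) :
    Cfsg.classInner (Cfsg.indFun S.φ.range (S.pull i)) (χ : K → ℂ) =
      (36 : ℂ)⁻¹ * ∑ y : Pr3, (spec i y : ℂ) * conj ((χ : K → ℂ) (S.φ y)) := by
  classical
  have := Fintype.ofFinite S.φ.range
  rw [frobenius_reciprocity _ _ (isClassFunction_irr χ), classInner_def, S.cardH,
    ← S.sum_H (fun y => (spec i y : ℂ) * conj ((χ : K → ℂ) (S.φ y)))]
  push_cast
  congr 1
  refine Finset.sum_congr rfl fun x _ => ?_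
  rw [φ_e]
  rfl

theorem main : normalizer ((S.P : Subgroup K) : Set K) = ⊤ := by
  classical
  have : Fact (Nat.Prime 3) := ⟨Nat.prime_three⟩
  have := Fintype.ofFinite K
  have := Fintype.ofFinite S.φ.range
  have hgen : ∀ i, Cfsg.IsGeneralizedCharacter K (Cfsg.indFun S.φ.range (S.pull i)) :=
    fun i => IsGeneralizedCharacter.indFun (S.gen_pull i)
  choose n hn using fun (i : Fin 5) (χ : Cfsg.IrrCharacter K) => IsGeneralizedCharacter.exists_mult (hgen i) χ.2
  let o : Cfsg.IrrCharacter K := ⟨_, isIrrCharacter_one⟩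
  have ho : ∀ i, n i o = ent prin i := by
    intro i
    apply Int.cast_injective (α := ℂ)
    rw [← hn, S.inner_irr]
    have h := congrArg (fun z : ℤ => (z : ℂ)) (spec_prin i)
    push_cast at h
    simp only [o, map_one, mul_one]
    rw [h, inv_mul_cancel_left₀ (by norm_num)]
  have hgram : ∀ i j : Fin 5, ∑ χ, n i χ * n j χ = get gramRest i j + n i o * n j o := by
    intro i j
    rw [ho, ho]
    apply Int.cast_injective (α := ℂ)
    have hj := classFunction_expand (isClassFunction_indFun S.φ.range (S.pull j))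
    have e1 : Cfsg.classInner (Cfsg.indFun S.φ.range (S.pull i)) (Cfsg.indFun S.φ.range (S.pull j)) =
        ((∑ χ, n i χ * n j χ : ℤ) : ℂ) := by
      conv_lhs => rw [hj]
      rw [classInner_sum_right]
      push_cast
      refine Finset.sum_congr rfl fun χ _ => ?_
      rw [classInner_smul_right, hn, hn, mul_comm]
      simp
    rw [← e1, frobenius_reciprocity _ _ (isClassFunction_indFun _ _), classInner_def, S.cardH,
      Finset.sum_congr rfl (g := fun x => (fun y => ((spec i y * spec j y : ℤ) : ℂ)) (S.e x)) fun x _ => by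
        rw [S.ind_apply j x]; simp [pull],
      S.sum_H (fun y => ((spec i y * spec j y : ℤ) : ℂ)), ← Int.cast_sum, spec_gram]
    push_cast
    ring
  have hdeg0 : ∀ i : Fin 5, ∑ χ, n i χ * (deg (χ : K → ℂ) : ℤ) = 0 := by
    intro i
    apply Int.cast_injective (α := ℂ)
    push_cast
    have h := classFunction_expand_apply (isClassFunction_indFun S.φ.range (S.pull i)) 1
    rw [indFun_one, show S.pull i 1 = 0 by rw [pull, map_one, spec_supp i 1 (by decide +kernel)]; simp, mul_zero] at h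
    rw [h]
    exact Finset.sum_congr rfl fun χ _ => by rw [hn, irr_apply_one_eq_deg]
  have hval : ∀ (a : Fin 5) (χ : Cfsg.IrrCharacter K),
      (χ : K → ℂ) (S.φ (rep a)) = ((∑ i : Fin 5, ent (coef a) i * n i χ : ℤ) : ℂ) := by
    intro a χ
    have h2 : ∀ y : Pr3, (∑ i : Fin 5, ((ent (coef a) i : ℤ) : ℂ) * (spec i y : ℂ)) * conj ((χ : K → ℂ) (S.φ y)) =
        if InCls a y then (csize a : ℂ) * conj ((χ : K → ℂ) (S.φ (rep a))) else 0 := by
      intro y
      have h := congrArg (fun z : ℤ => (z : ℂ)) (indicator a y)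
      push_cast at h
      rw [h]
      split_ifs with hy
      · obtain ⟨k, rfl⟩ := hy
        rw [map_mul, map_mul, map_inv, isClassFunction_irr χ (S.φ (rep a)) (S.φ k)]
      · simp
    have h : ((∑ i : Fin 5, ent (coef a) i * n i χ : ℤ) : ℂ) = conj ((χ : K → ℂ) (S.φ (rep a))) := by
      push_cast
      rw [Finset.sum_congr rfl (g := fun i : Fin 5 => (36 : ℂ)⁻¹ *
        ∑ y : Pr3, ((ent (coef a) i : ℤ) : ℂ) * (spec i y : ℂ) * conj ((χ : K → ℂ) (S.φ y))) fun i _ => by
          rw [← hn, S.inner_irr, mul_left_comm, Finset.mul_sum]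
          exact congrArg _ (Finset.sum_congr rfl fun y _ => by ring),
        ← Finset.mul_sum, Finset.sum_comm, Finset.sum_congr rfl fun y _ => (Finset.sum_mul _ _ _).symm,
        Finset.sum_congr rfl fun y _ => h2 y, Finset.sum_ite, Finset.sum_const_zero, add_zero, Finset.sum_const,
        nsmul_eq_mul, ← mul_assoc, ← mul_assoc]
      have hc := congrArg (fun z : ℤ => (z : ℂ)) (cls_card a)
      push_cast at hc
      rw [mul_assoc (36 : ℂ)⁻¹, hc, inv_mul_cancel₀ (by norm_num), one_mul]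
    rw [← Complex.conj_conj ((χ : K → ℂ) (S.φ (rep a))), ← h, map_intCast]
  -- the rows
  obtain ⟨D, hDs, hDp, hDd, hDsum⟩ := exists_rows' n (fun χ : Cfsg.IrrCharacter K => (deg (χ : K → ℂ) : ℤ)) o
    gramRest sols cert cert_ok hgram
  have hdo : (deg (o : K → ℂ) : ℤ) = 1 := by
    have h1 : (deg (o : K → ℂ) : ℂ) = 1 := (irr_apply_one_eq_deg o).symm.trans rfl
    exact_mod_cast h1
  have hzero : ∀ a c : Fin 5, a.val < 2 → c.val < 3 → a ≠ c → tsum a c (D.map fun p => (p.1, p.2.1)) = 0 := by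
    intro a c ha hc hac
    have h := class_mult_formula (G := K) (S.φ (rep a)) (S.φ (rep a)) (S.φ (rep c))
    rw [S.no_pairs a c ha hc hac, Nat.cast_zero] at h
    have h' := (mul_eq_zero.1 h.symm).resolve_left (div_ne_zero (mul_ne_zero
      (Nat.cast_ne_zero.2 (card_isConj_pos _).ne') (Nat.cast_ne_zero.2 (card_isConj_pos _).ne'))
      (Nat.cast_ne_zero.2 Nat.card_pos.ne'))
    rw [hDsum _ fun χ hχ => by simp [hval, hχ]] at h'
    rw [tsum, List.map_map, ← h']
    congr 1
    · show (1 : ℂ) = 1 * 1 * conj 1 / 1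
      simp
    · refine congrArg List.sum (List.map_congr_left fun p hp => ?_)
      obtain ⟨-, σ, hσ, hd, hrow⟩ := hDp p hp
      rw [Function.comp_apply, hval, hval, irr_apply_one_eq_deg, map_intCast, hd]
      simp only [hrow, vr]
      push_cast
      simp only [Fin.sum_univ_five]
      rcases mul_self_eq_one_iff.1 hσ with e | e <;> rw [e] <;> push_cast <;> ring
  have hone := degree_one (D.map fun p => (p.1, p.2.1))
    (by rw [List.map_map]; exact hDs)
    (fun p hp => by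
      obtain ⟨q, hq, rfl⟩ := List.mem_map.1 hp
      obtain ⟨-, σ, hσ, hd, -⟩ := hDp q hq
      simp only [hd]
      have := deg_irr_pos q.2.2
      exact mul_ne_zero (fun e => by simp [e] at hσ) (by omega))
    (fun i => by
      have h := hDd i
      rw [hdeg0, ho, hdo, mul_one] at h
      rw [List.map_map]
      exact h)
    (hzero 0 1 (by decide) (by decide) (by decide)) (hzero 0 2 (by decide) (by decide) (by decide))
    (hzero 1 0 (by decide) (by decide) (by decide)) (hzero 1 2 (by decide) (by decide) (by decide))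
  obtain ⟨⟨r, x, χ⟩, hq, hqe⟩ := List.mem_map.1 hone
  simp only [Prod.mk.injEq] at hqe
  obtain ⟨rfl, rfl⟩ := hqe
  obtain ⟨-, σ, hσ, hd, hrow⟩ := hDp _ hq
  simp only at hd hrow
  have hpos := deg_irr_pos χ
  have hs : σ = 1 ∧ deg (χ : K → ℂ) = 1 := by
    rcases mul_self_eq_one_iff.1 hσ with e | e <;> rw [e] at hd ⊢ <;> omega
  obtain ⟨f, hf⟩ := exists_hom_of_deg_one (isCharacter_of_irr χ.2)
    (by rw [irr_apply_one_eq_deg, hs.2, Nat.cast_one])
  have hfv : ∀ a : Fin 5, ((f (S.φ (rep a)) : ℂˣ) : ℂ) = ((![1, 1, 1, -1, -1] a : ℤ) : ℂ) := by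
    intro a
    rw [← congrFun hf, hval, ← linRow_vr a, vr]
    simp only [hrow, hs.1, one_mul]
  -- the kernel
  obtain ⟨N, hN⟩ : ∃ N : Subgroup K, N = f.ker := ⟨_, rfl⟩
  haveI hNn : N.Normal := hN ▸ f.normal_ker
  have h0 : f (S.φ (rep 0)) = 1 := Units.ext (by rw [hfv]; simp)
  have h1 : f (S.φ (rep 1)) = 1 := Units.ext (by rw [hfv]; simp)
  have hsy : ((f (S.φ ((1 : Perm (Fin 3)), tr)) : ℂˣ) : ℂ) = -1 := by
    have h := hfv 3
    rw [rep_parts.1, map_mul, map_mul, h0, one_mul] at h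
    rw [h]; simp
  have hsx : ((f (S.φ (tr, (1 : Perm (Fin 3)))) : ℂˣ) : ℂ) = -1 := by
    have h := hfv 4
    rw [rep_parts.2.1, map_mul, map_mul, h1, one_mul] at h
    rw [h]; simp
  have hPN : (S.P : Subgroup K) ≤ N := by
    intro p hp
    obtain ⟨y, rfl⟩ := S.le hp
    obtain ⟨i, j, rfl⟩ := rep_parts.2.2 y ((S.memP y).1 hp)
    rw [hN, MonoidHom.mem_ker]
    simp only [map_mul, map_pow, h0, h1, one_pow, one_mul]
  have hpar : ∀ y : Pr3, S.φ y ∈ N → (Cube y ∨ Cube ((tr, tr)⁻¹ * y)) ∧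
      ∀ a : Fin 5, a.val < 3 → y * rep a = rep a * y → Cube y := by
    intro y hy
    obtain ⟨i, j, k, l, rfl⟩ := decomp y
    refine even_part i j k l ?_
    rw [hN, MonoidHom.mem_ker] at hy
    have := congrArg (fun z : ℂˣ => (z : ℂ)) hy
    simp only [map_mul, map_pow, h0, h1, one_pow, one_mul, Units.val_mul, Units.val_pow_eq_pow_val, hsx, hsy,
      Units.val_one] at this
    revert this
    fin_cases k <;> fin_cases l <;> norm_num
  let PN : Sylow 3 N := S.P.subtype hPN
  have hPNmem : ∀ y : N, y ∈ (PN : Subgroup N) ↔ (y : K) ∈ (S.P : Subgroup K) := fun y => Iff.rfl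
  have hrepP : ∀ i : Fin 3, S.φ (rep (Fin.castLE (by norm_num) i)) ∈ (S.P : Subgroup K) := fun i =>
    (S.memP _).2 (rep_cube _ (by simp)).1
  have htN : S.φ (tr, tr) ∈ N := by
    rw [hN, MonoidHom.mem_ker]
    refine Units.ext ?_
    rw [inv_tr.2.1, map_mul, map_mul, Units.val_mul, hsx, hsy]
    norm_num
  let T : Cfsg.Lib.AltNineLocal.Three N :=
    { P := PN
      r := fun i => ⟨S.φ (rep (Fin.castLE (by norm_num) i)), hPN (hrepP i)⟩
      r_two := Subtype.ext (by
        show S.φ (rep 2) = S.φ (rep 0) * S.φ (rep 1)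
        rw [inv_tr.2.2.1, map_mul])
      r_mem := hrepP
      card9 := by
        rw [← S.card9]
        exact Nat.card_congr (subgroupOfEquivOfLe hPN).toEquiv
      cube := fun s hs => Subtype.ext (S.mem_cube hs)
      comm := fun s hs s' hs' => Subtype.ext (S.P_comm hs hs')
      r_ne := fun i h => (rep_cube (Fin.castLE (by norm_num) i) (by simp)).2
        (S.inj ((congrArg Subtype.val h).trans (map_one S.φ).symm))
      r_sep := fun i j hij => ⟨fun h => (inv_tr.2.2.2 i j hij).1 (S.inj (congrArg Subtype.val h)),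
        fun h => (inv_tr.2.2.2 i j hij).2 (S.inj (by rw [map_inv]; exact congrArg Subtype.val h))⟩
      cent := fun i => by
        refine le_antisymm (fun g hg => ?_) (fun g hg => mem_centralizer_singleton_iff.2 (Subtype.ext (S.P_comm hg (hrepP i))))
        have hc := congrArg Subtype.val (mem_centralizer_singleton_iff.1 hg)
        obtain ⟨y, hy⟩ := S.cent _ (hrepP i) (fun e => (rep_cube (Fin.castLE (by norm_num) i) (by simp)).2
          (S.inj (e.trans (map_one S.φ).symm))) (mem_centralizer_singleton_iff.2 hc)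
        rw [hPNmem, ← hy]
        refine (S.memP y).2 ((hpar y (hy ▸ g.2)).2 (Fin.castLE (by norm_num) i) i.2 (S.inj ?_))
        rw [map_mul, map_mul, hy]
        exact hc
      t := ⟨_, htN⟩
      inv := fun s hs => Subtype.ext (by
        have hs' : (s : K) ∈ (S.P : Subgroup K) := hs
        obtain ⟨y, hy⟩ := S.le hs'
        show S.φ (tr, tr) * (s : K) * (S.φ (tr, tr))⁻¹ = (s : K)⁻¹
        rw [← hy, ← map_inv, ← map_mul, ← map_mul, inv_tr.1 y ((S.memP y).1 (hy ▸ hs')), map_inv])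
      norm := fun g hg => by
        have hgn : (g : K) ∈ normalizer ((S.P : Subgroup K) : Set K) :=
          Subgroup.mem_normalizer_iff_map_conj_eq.2 (Subgroup.eq_of_le_of_card_ge
            (by
              rintro _ ⟨a, ha, rfl⟩
              exact (mem_normalizer_iff.1 hg ⟨a, hPN ha⟩).1 ha)
            (by rw [Subgroup.card_map_of_injective (MulAut.conj (g : K)).injective]))
        obtain ⟨y, hy⟩ := S.norm hgn
        rcases (hpar y (hy ▸ g.2)).1 with h | h
        · exact Or.inl (by rw [hPNmem, ← hy]; exact (S.memP y).2 h)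
        · refine Or.inr ?_
          rw [hPNmem]
          have := (S.memP _).2 h
          rw [map_mul, map_inv, hy] at this
          exact this
      core := by
        obtain ⟨C, hC⟩ : ∃ C : Subgroup N, C = Cfsg.pPrimeCore 3 N := ⟨_, rfl⟩
        haveI hCn : C.Normal := hC ▸ inferInstance
        haveI : (C.map N.subtype).Normal := ⟨by
          rintro _ ⟨c, hc, rfl⟩ k
          have hle : C.map (MulAut.conjNormal k : N ≃* N).toMonoidHom ≤ C := by
            rw [hC]
            haveI : ((Cfsg.pPrimeCore 3 N).map (MulAut.conjNormal k : N ≃* N).toMonoidHom).Normal :=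
              (hC ▸ hCn : (Cfsg.pPrimeCore 3 N).Normal).map _ (MulAut.conjNormal k : N ≃* N).surjective
            refine Cfsg.Lib.Components.le_pPrimeCore ?_
            have hcc : Nat.card ((Cfsg.pPrimeCore 3 N).map (MulAut.conjNormal k : N ≃* N).toMonoidHom) =
                Nat.card (Cfsg.pPrimeCore 3 N) :=
              (Nat.card_congr (((MulAut.conjNormal k : N ≃* N)).subgroupMap (Cfsg.pPrimeCore 3 N)).toEquiv).symm
            rw [hcc]
            exact Cfsg.Lib.Components.coprime_card_pPrimeCore 3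
          refine ⟨MulAut.conjNormal k c, hle ⟨c, hc, rfl⟩, ?_⟩
          exact MulAut.conjNormal_apply k c⟩
        have hle : C.map N.subtype ≤ Cfsg.pPrimeCore 3 K := Cfsg.Lib.Components.le_pPrimeCore (by
          rw [Subgroup.card_map_of_injective N.subtype_injective, hC]
          exact Cfsg.Lib.Components.coprime_card_pPrimeCore 3)
        rw [S.core, le_bot_iff, Subgroup.map_eq_bot_iff_of_injective _ N.subtype_injective] at hle
        exact hC ▸ hle }
  have hnorm := T.normal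
  refine eq_top_iff.2 fun k _ => Subgroup.mem_normalizer_iff_map_conj_eq.2 (Subgroup.eq_of_le_of_card_ge ?_
    (by rw [Subgroup.card_map_of_injective (MulAut.conj k).injective]))
  haveI : (PN : Subgroup N).Normal := normalizer_eq_top_iff.1 hnorm
  haveI : Unique (Sylow 3 N) := Sylow.unique_of_normal PN inferInstance
  rintro _ ⟨a, ha, rfl⟩
  obtain ⟨Q, hQ⟩ : ∃ Q : Sylow 3 N,
      (⟨k * a * k⁻¹, hNn.conj_mem a (hPN ha) k⟩ : N) ∈ (Q : Subgroup N) := by
    obtain ⟨Q, hQ⟩ := (show IsPGroup 3 (zpowers (⟨k * a * k⁻¹, hNn.conj_mem a (hPN ha) k⟩ : N)) from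
      IsPGroup.of_card_dvd_pow (n := 1) (by
        rw [Nat.card_zpowers, pow_one]
        refine orderOf_dvd_of_pow_eq_one (Subtype.ext ?_)
        push_cast
        calc (k * a * k⁻¹) ^ 3 = k * (a * (a * a)) * k⁻¹ := by simp only [pow_succ, pow_zero, one_mul]; group
          _ = 1 := by rw [S.mem_cube ha]; group)).exists_le_sylow
    exact ⟨Q, hQ (mem_zpowers _)⟩
  rw [Subsingleton.elim Q PN] at hQ
  exact hQ

end Local

end Cfsg.Lib.FourNine
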