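import Cfsg.Agent.Chars.Perm
import Cfsg.Agent.Chars.Construct
import Cfsg.Agent.LocalThree.FourNine.Cert

/-!
The product of two symmetric groups of degree three, its elements with nontrivial three-part and the
exceptional functions on them.
-/

set_option autoImplicit false
set_option maxRecDepth 8000

namespace Cfsg.Lib.FourNine

open Equiv GramSplit Cfsg.Lib.Chars

/-- The product of two symmetric groups. -/
abbrev Pr3 := Perm (Fin 3) × Perm (Fin 3)

/-- The cycle. -/
def cy : Perm (Fin 3) := swap 0 1 * swap 1 2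

/-- The transposition. -/
def tr : Perm (Fin 3) := swap 0 1

/-- The elements of order dividing three. -/
def Cube (x : Pr3) : Prop := x * (x * x) = 1

instance : DecidablePred Cube := fun _ => inferInstanceAs (Decidable (_ = _))

/-- The number of fixed points. -/
def fixN (a : Perm (Fin 3)) : ℤ := ((Finset.univ.filter fun i => a i = i).card : ℤ)

/-- Supported on the cycles. -/
def th (a : Perm (Fin 3)) : ℤ := 2 + (Perm.sign a : ℤ) - fixN a

/-- The three irreducible characters. -/
def chi : Fin 3 → Perm (Fin 3) → ℤ :=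
  ![fun _ => 1, fun a => (Perm.sign a : ℤ), fun a => fixN a - 1]

/-- The five functions. -/
def spec : Fin 5 → Pr3 → ℤ :=
  ![fun x => th x.1 * chi 0 x.2, fun x => th x.1 * chi 1 x.2, fun x => th x.1 * chi 2 x.2,
    fun x => th x.2 * chi 0 x.1, fun x => th x.2 * chi 1 x.1]

/-- The fourth power. -/
def four (x : Pr3) : Pr3 := x * x * (x * x)

theorem four_cube : ∀ x : Pr3, Cube (four x) := by decide +kernel

theorem spec_supp : ∀ (i : Fin 5) (x : Pr3), four x = 1 → spec i x = 0 := by decide +kernel

theorem spec_gram : ∀ i j : Fin 5, ∑ x : Pr3, spec i x * spec j x = 36 * (get gramRest i j + ent prin i * ent prin j) := by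
  decide +kernel

theorem spec_prin : ∀ i : Fin 5, ∑ x : Pr3, spec i x = 36 * ent prin i := by decide +kernel

/-- The five classes: the two lines, the other elements of order three, and the elements of order six. -/
def rep : Fin 5 → Pr3 := ![(cy, 1), (1, cy), (cy, cy), (cy, tr), (tr, cy)]

/-- The orders of the centralisers. -/
def csize : Fin 5 → ℤ := ![18, 18, 9, 6, 6]

/-- The coefficients of the indicators of the classes. -/
def coef : Fin 5 → Row := ![[1, 1, 2, 0, 0], [-2, -2, 2, 3, 3], [1, 1, -1, 0, 0], [1, -1, 0, 0, 0], [0, 0, 0, 1, -1]]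

/-- Membership of a class. -/
def InCls (a : Fin 5) (x : Pr3) : Prop := ∃ k : Pr3, k * rep a * k⁻¹ = x

instance (a : Fin 5) : DecidablePred (InCls a) := fun _ => inferInstanceAs (Decidable (∃ _, _))

theorem indicator : ∀ (a : Fin 5) (x : Pr3),
    ∑ i : Fin 5, ent (coef a) i * spec i x = if InCls a x then csize a else 0 := by decide +kernel

theorem cls_card : ∀ a : Fin 5, ((Finset.univ.filter fun x => InCls a x).card : ℤ) * csize a = 36 := by decide +kernel

theorem rep_four : ∀ a : Fin 5, four (rep a) ≠ 1 := by decide +kernel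

/-- The members of order three. -/
theorem rep_cube : ∀ a : Fin 5, a.val < 3 → Cube (rep a) ∧ rep a ≠ 1 := by decide +kernel

theorem cube_comm : ∀ x y : Pr3, Cube x → Cube y → x * y = y * x := by decide +kernel

theorem cube_mul : ∀ x y : Pr3, Cube x → Cube y → Cube (x * y) := by decide +kernel

theorem cube_conj : ∀ k x : Pr3, Cube x → Cube (k * x * k⁻¹) := by decide +kernel

theorem card_cube : (Finset.univ.filter fun x : Pr3 => Cube x).card = 9 := by decide +kernel

theorem no_product : ∀ a c : Fin 5, a.val < 2 → c.val < 3 → a ≠ c → ∀ x y : Pr3, InCls a x → InCls a y →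
    ¬ InCls c (x * y) := by decide +kernel

theorem cls_sep : ∀ a c : Fin 5, a.val < 2 → c.val < 3 → a ≠ c → ¬ InCls a (rep c)⁻¹ := by decide +kernel

theorem cy_facts : Cube (cy, cy) ∧ (cy, cy) = rep 0 * rep 1 ∧
    (∀ x : Pr3, x * rep 2 = rep 2 * x → Cube x) := by decide +kernel

theorem gen_fix : Cfsg.IsGeneralizedCharacter (Perm (Fin 3)) fun a => (fixN a : ℂ) := by
  have h := IsCharacter.isGeneralized (isCharacter_permChar (G := Perm (Fin 3)) (Fin 3))
  convert h using 1
  funext a
  rw [permChar, fixN, Int.cast_natCast, ← Nat.card_eq_finsetCard]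
  exact congrArg _ (Nat.card_congr (Equiv.subtypeEquivRight fun i => by simp [MulAction.fixedBy]))

theorem gen_sign : Cfsg.IsGeneralizedCharacter (Perm (Fin 3)) fun a => ((Perm.sign a : ℤ) : ℂ) := by
  have h := IsCharacter.isGeneralized (isCharacter_linear (((Units.map (Int.castRingHom ℂ).toMonoidHom)).comp (Perm.sign (α := Fin 3))))
  exact h

theorem gen_one {G : Type} [Group G] [Finite G] (n : ℤ) : Cfsg.IsGeneralizedCharacter G fun _ => (n : ℂ) := by
  have h := IsGeneralizedCharacter.zsmul (IsCharacter.isGeneralized (isCharacter_one (G := G))) n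
  convert h using 1
  funext a
  simp

theorem gen_th : Cfsg.IsGeneralizedCharacter (Perm (Fin 3)) fun a => (th a : ℂ) := by
  convert IsGeneralizedCharacter.sub (IsGeneralizedCharacter.add (gen_one 2) gen_sign) gen_fix using 1
  funext a
  simp [th]

theorem gen_chi (j : Fin 3) : Cfsg.IsGeneralizedCharacter (Perm (Fin 3)) fun a => (chi j a : ℂ) := by
  fin_cases j
  · exact gen_one 1
  · exact gen_sign
  · convert IsGeneralizedCharacter.sub gen_fix (gen_one 1) using 1
    funext a
    simp [chi]

theorem gen_spec (i : Fin 5) : Cfsg.IsGeneralizedCharacter Pr3 fun x => (spec i x : ℂ) := by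
  have h : ∀ j : Fin 3, Cfsg.IsGeneralizedCharacter Pr3 (fun x => ((th x.1 * chi j x.2 : ℤ) : ℂ)) ∧
      Cfsg.IsGeneralizedCharacter Pr3 (fun x => ((th x.2 * chi j x.1 : ℤ) : ℂ)) := fun j => by
    have h1 := IsGeneralizedCharacter.mul (IsGeneralizedCharacter.comp_hom gen_th (MonoidHom.fst (Perm (Fin 3)) (Perm (Fin 3))))
      (IsGeneralizedCharacter.comp_hom (gen_chi j) (MonoidHom.snd (Perm (Fin 3)) (Perm (Fin 3))))
    have h2 := IsGeneralizedCharacter.mul (IsGeneralizedCharacter.comp_hom gen_th (MonoidHom.snd (Perm (Fin 3)) (Perm (Fin 3))))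
      (IsGeneralizedCharacter.comp_hom (gen_chi j) (MonoidHom.fst (Perm (Fin 3)) (Perm (Fin 3))))
    constructor
    · convert h1 using 1; funext x; simp
    · convert h2 using 1; funext x; simp
  fin_cases i
  exacts [(h 0).1, (h 1).1, (h 2).1, (h 0).2, (h 1).2]

end Cfsg.Lib.FourNine
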